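import Cfsg.Agent.Spor.J3a.U.D0

set_option autoImplicit false
set_option maxRecDepth 100000000
set_option Elab.async false

namespace Cfsg.Agent.Spor.J3a.U

theorem uok4 : Net.okb 15 un4 = true := by decide +kernel

theorem rel3 : U.rel 15 [9, 6, 8, 6, 6, 6, 6, 6, 1, 6, 8, 6, 6, 6, 6, 6, 1] 0 15 = true := by decide +kernel

theorem uok5 : Net.okb 15 un5 = true := by decide +kernel

theorem rel4 : U.rel 15 [11, 8, 1, 4, 8, 1, 6] 0 15 = true := by decide +kernel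

theorem rel5 : U.rel 15 [9, 9] 0 15 = true := by decide +kernel

theorem uok6 : Net.okb 15 un6 = true := by decide +kernel

theorem rel6 : U.rel 15 [13, 11, 9, 11, 11, 9, 11, 9, 12, 9] 0 15 = true := by decide +kernel

theorem uok7 : Net.okb 15 un7 = true := by decide +kernel

theorem rel7 : U.rel 15 [15, 9, 12, 9, 11, 11, 9, 12, 12, 12, 12] 0 15 = true := by decide +kernel

theorem rel8 : U.rel 15 [13, 15, 15, 13, 15, 15] 0 15 = true := by decide +kernel

theorem rel9 : U.rel 15 [15, 15, 15, 15, 15, 15, 15, 15, 15, 15] 0 15 = true := by decide +kernel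

theorem rel10 : U.rel 15 [13, 15, 13, 15, 13, 15, 13, 15, 13, 16, 13, 16] 0 15 = true := by decide +kernel

theorem rel11 : U.rel 15 [13, 13] 0 15 = true := by decide +kernel

theorem rel12 : U.rel 15 [9, 11, 9, 11, 9, 11, 9, 11] 0 15 = true := by decide +kernel

theorem rel13 : U.rel 15 [11, 11, 9, 12, 12, 16, 14, 16, 14, 16, 14] 0 15 = true := by decide +kernel

theorem rel14 : U.rel 15 [9, 11, 11, 11, 11, 9, 12, 12, 12, 12, 12, 12, 9, 14, 16] 0 15 = true := by decide +kernel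

theorem rel15 : U.rel 15 [9, 11, 11, 11, 9, 12, 12, 9, 11, 11, 11, 9, 11, 15, 15, 15, 15] 0 15 = true := by decide +kernel

theorem uok8 : Net.okb 15 un8 = true := by decide +kernel

theorem rel17_0 : U.rel 15 [17, 9, 11, 9, 11, 9, 9, 11, 9, 11, 9, 11, 11, 11, 9, 11, 11, 11, 9, 9, 9, 11, 9, 11, 11, 9, 11, 9, 11, 11, 11, 9, 9, 9, 9, 9, 9, 9, 9, 11, 11, 11, 11, 11, 11, 9, 11, 9, 11, 9, 9, 11, 9, 11, 9, 11, 9, 9, 11, 9, 11, 9, 11, 11, 9, 11, 9, 11, 11, 11, 11, 11, 11, 9, 11, 11, 11] 0 12 = true := by decide +kernel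

theorem rel17_12 : U.rel 15 [17, 9, 11, 9, 11, 9, 9, 11, 9, 11, 9, 11, 11, 11, 9, 11, 11, 11, 9, 9, 9, 11, 9, 11, 11, 9, 11, 9, 11, 11, 11, 9, 9, 9, 9, 9, 9, 9, 9, 11, 11, 11, 11, 11, 11, 9, 11, 9, 11, 9, 9, 11, 9, 11, 9, 11, 9, 9, 11, 9, 11, 9, 11, 11, 9, 11, 9, 11, 11, 11, 11, 11, 11, 9, 11, 11, 11] 12 3 = true := by decide +kernel

theorem gr19 : sub M18 (U.growI W16 [0, 1, 1, 0, 1, 1, 0, 1, 1, 0, 1, 1, 0, 1, 1, 0, 1, 1, 0, 1, 1, 0, 1, 1, 0, 1, 1, 0, 1, 1, 0, 1] (Nat.shiftLeft 1 28)) = true := by decide +kernel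

theorem cl21 : band (U.closedW W16 M18) (sub (Nat.shiftLeft 1 28) M18) = true := by decide +kernel

theorem sz22 : sizeOk 15 M18 4080 = true := by decide +kernel

theorem fx25 : U.closedW W24 (Nat.shiftLeft 1 28) = true := by decide +kernel

theorem gr27 : sub M26 (U.growI W24 [0] (Nat.shiftLeft 1 0)) = true := by decide +kernel

theorem cl29 : band (U.closedW W24 M26) (sub (Nat.shiftLeft 1 0) M26) = true := by decide +kernel

theorem sz30 : sizeOk 15 M26 2 = true := by decide +kernel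

end Cfsg.Agent.Spor.J3a.U
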