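import Cfsg.Agent.Spor.Prim
import Cfsg.Agent.Spor.J3a.Main
import Cfsg.Agent.Spor.J3a.U.C0
import Cfsg.Agent.Spor.TT2
import Cfsg.Agent.Spor.L216a.Main

set_option autoImplicit false
set_option maxRecDepth 100000000
set_option Elab.async false

namespace Cfsg.Agent.Spor.J3a.U

theorem hU : U.Ok 15 := U.ok_of 15 (show AllP (fun n => Net.okb 15 n = true) [n0, n1, n2, n3, un4, un5, un6, un7, un8] from AllP.cons ok0 (AllP.cons ok1 (AllP.cons ok2 (AllP.cons ok3 (AllP.cons uok4 (AllP.cons uok5 (AllP.cons uok6 (AllP.cons uok7 (AllP.cons uok8 (AllP.nil))))))))))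

theorem hfP : ∀ j < 4, U.fP [1, 3, 5, 7] j = fP j := by
  intro j hj
  interval_cases j <;> rfl
theorem eG : gsub 4 fP = U.lsub W1 := (gsub_congr hfP).symm.trans (lsub_eq_gsub U [1, 3, 5, 7])
theorem upz1 : ev (atm 4 fP) [0] = U.τ 1 := pz1
theorem upz3 : ev (atm 4 fP) [2] = U.τ 3 := pz2
theorem upz5 : ev (atm 4 fP) [4] = U.τ 5 := pz3
theorem upz7 : ev (atm 4 fP) [6] = U.τ 7 := pz4
theorem eH : wsub 4 fP BW = U.lsub W2 :=
  lsub_eq_of_all₂ (show List.Forall₂ _ [[0], [2], [4]] [[1], [3], [5]] from List.Forall₂.cons (upz1.trans (one_mul _).symm) (List.Forall₂.cons (upz3.trans (one_mul _).symm) (List.Forall₂.cons (upz5.trans (one_mul _).symm) (List.Forall₂.nil))))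
theorem vpz1 : PZ U (atm 4 fP) EXU 1 := pz1
theorem vpz2 : PZ U (atm 4 fP) EXU 2 := PZ.of_inv hiv vpz1 (by decide +kernel)
theorem vpz3 : PZ U (atm 4 fP) EXU 3 := pz2
theorem vpz4 : PZ U (atm 4 fP) EXU 4 := PZ.of_inv hiv vpz3 (by decide +kernel)
theorem vpz5 : PZ U (atm 4 fP) EXU 5 := pz3
theorem vpz6 : PZ U (atm 4 fP) EXU 6 := PZ.of_inv hiv vpz5 (by decide +kernel)
theorem vpz7 : PZ U (atm 4 fP) EXU 7 := pz4
theorem vpz8 : PZ U (atm 4 fP) EXU 8 := PZ.of_inv hiv vpz7 (by decide +kernel)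
theorem vpz9 : PZ U (atm 4 fP) EXU 9 := PZ.of_def hiv (d := [6, 8, 6, 6, 6, 6, 6, 1, 6, 8, 6, 6, 6, 6, 6, 1]) (AllP.cons vpz6 (AllP.cons vpz8 (AllP.cons vpz6 (AllP.cons vpz6 (AllP.cons vpz6 (AllP.cons vpz6 (AllP.cons vpz6 (AllP.cons vpz1 (AllP.cons vpz6 (AllP.cons vpz8 (AllP.cons vpz6 (AllP.cons vpz6 (AllP.cons vpz6 (AllP.cons vpz6 (AllP.cons vpz6 (AllP.cons vpz1 (AllP.nil))))))))))))))))) (hU.one rel3) (by decide +kernel)
theorem vpz10 : PZ U (atm 4 fP) EXU 10 := PZ.of_inv hiv vpz9 (by decide +kernel)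
theorem vpz11 : PZ U (atm 4 fP) EXU 11 := PZ.of_def hiv (d := [8, 1, 4, 8, 1, 6]) (AllP.cons vpz8 (AllP.cons vpz1 (AllP.cons vpz4 (AllP.cons vpz8 (AllP.cons vpz1 (AllP.cons vpz6 (AllP.nil))))))) (hU.one rel4) (by decide +kernel)
theorem vpz12 : PZ U (atm 4 fP) EXU 12 := PZ.of_inv hiv vpz11 (by decide +kernel)
theorem hPZU : AllP (PZ U (atm 4 fP) EXU) LU :=
  show AllP (PZ U (atm 4 fP) EXU) [1, 2, 3, 4, 5, 6, 7, 8, 9, 10, 11, 12] from AllP.cons vpz1 (AllP.cons vpz2 (AllP.cons vpz3 (AllP.cons vpz4 (AllP.cons vpz5 (AllP.cons vpz6 (AllP.cons vpz7 (AllP.cons vpz8 (AllP.cons vpz9 (AllP.cons vpz10 (AllP.cons vpz11 (AllP.cons vpz12 (AllP.nil))))))))))))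
theorem pKsq : ∀ j < 1, j < 2 → U.fP [9, 11] j * U.fP [9, 11] j = 1 :=
  Tab.sq (show AllP (fun z => evA U.τ [z, z] = 1) [9] from AllP.cons (hU.one rel5) (AllP.nil)) 2 rfl
theorem pKiv : IvOk (2 * 1) (atm 2 (U.fP [9, 11])) := ivOk_atm pKsq
theorem pKpz9 : PZ U (atm 2 (U.fP [9, 11])) pKEX 9 := PZ.of_atom (y := 2 * 0) (by decide +kernel) (atm_two_mul _ (by decide))
theorem pKpz11 : PZ U (atm 2 (U.fP [9, 11])) pKEX 11 := PZ.of_atom (y := 2 * 1) (by decide +kernel) (atm_two_mul _ (by decide))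
theorem pKpz12 : PZ U (atm 2 (U.fP [9, 11])) pKEX 12 := PZ.of_inv pKiv pKpz11 (by decide +kernel)
theorem pKpz13 : PZ U (atm 2 (U.fP [9, 11])) pKEX 13 := PZ.of_def pKiv (d := [11, 9, 11, 11, 9, 11, 9, 12, 9]) (AllP.cons pKpz11 (AllP.cons pKpz9 (AllP.cons pKpz11 (AllP.cons pKpz11 (AllP.cons pKpz9 (AllP.cons pKpz11 (AllP.cons pKpz9 (AllP.cons pKpz12 (AllP.cons pKpz9 (AllP.nil)))))))))) (hU.one rel6) (by decide +kernel)
theorem pKpz14 : PZ U (atm 2 (U.fP [9, 11])) pKEX 14 := PZ.of_inv pKiv pKpz13 (by decide +kernel)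
theorem pKpz15 : PZ U (atm 2 (U.fP [9, 11])) pKEX 15 := PZ.of_def pKiv (d := [9, 12, 9, 11, 11, 9, 12, 12, 12, 12]) (AllP.cons pKpz9 (AllP.cons pKpz12 (AllP.cons pKpz9 (AllP.cons pKpz11 (AllP.cons pKpz11 (AllP.cons pKpz9 (AllP.cons pKpz12 (AllP.cons pKpz12 (AllP.cons pKpz12 (AllP.cons pKpz12 (AllP.nil))))))))))) (hU.one rel7) (by decide +kernel)
theorem pKpz16 : PZ U (atm 2 (U.fP [9, 11])) pKEX 16 := PZ.of_inv pKiv pKpz15 (by decide +kernel)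
theorem pKPZ : AllP (PZ U (atm 2 (U.fP [9, 11])) pKEX) [9, 11, 12, 13, 14, 15, 16] :=
  AllP.cons pKpz9 (AllP.cons pKpz11 (AllP.cons pKpz12 (AllP.cons pKpz13 (AllP.cons pKpz14 (AllP.cons pKpz15 (AllP.cons pKpz16 (AllP.nil)))))))
theorem pK : Pres 2 1 L216a.RL (U.fP [9, 11]) :=
  ⟨pKsq, relAll_sound pKiv (W := [[13, 15, 15, 13, 15, 15], [15, 15, 15, 15, 15, 15, 15, 15, 15, 15], [13, 15, 13, 15, 13, 15, 13, 15, 13, 16, 13, 16], [13, 13], [9, 11, 9, 11, 9, 11, 9, 11], [11, 11, 9, 12, 12, 16, 14, 16, 14, 16, 14], [9, 11, 11, 11, 11, 9, 12, 12, 12, 12, 12, 12, 9, 14, 16], [9, 11, 11, 11, 9, 12, 12, 9, 11, 11, 11, 9, 11, 15, 15, 15, 15]]) (rules := [⟨[13, 15, 15, 13, 15, 15], [], 0, true⟩, ⟨[15, 15, 15, 15, 15, 15, 15, 15, 15, 15], [], 1, true⟩, ⟨[13, 15, 13, 15, 13, 15, 13, 15, 13, 16, 13, 16], [], 2, true⟩, ⟨[13, 13], [], 3, true⟩, ⟨[9, 11, 9, 11, 9, 11, 9, 11], [],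 4, true⟩, ⟨[11, 11, 9, 12, 12, 16, 14, 16, 14, 16, 14], [], 5, true⟩, ⟨[9, 11, 11, 11, 11, 9, 12, 12, 12, 12, 12, 12, 9, 14, 16], [], 6, true⟩, ⟨[9, 11, 11, 11, 9, 12, 12, 9, 11, 11, 11, 9, 11, 15, 15, 15, 15], [], 7, true⟩]) pKPZ (AllP.cons (hU.one rel8) (AllP.cons (hU.one rel9) (AllP.cons (hU.one rel10) (AllP.cons (hU.one rel11) (AllP.cons (hU.one rel12) (AllP.cons (hU.one rel13) (AllP.cons (hU.one rel14) (AllP.cons (hU.one rel15) (AllP.nil))))))))) (by decide +kernel)⟩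
theorem pKE : ∀ j < 2, U.fP [9, 11] j = wv 4 fP pKWD j := by
  intro j hj
  interval_cases j
  · exact vpz9.symm
  · exact vpz11.symm
theorem pKW : Pres 2 1 L216a.RL (wv 4 fP pKWD) := pK.congr pKE
theorem pKG : wsub 4 fP pKWD = U.lsub W16 :=
  (gsub_congr pKE).symm.trans (lsub_eq_gsub U [9, 11])
theorem reach20 : Reach (U.lsub W16) 28 M18 := (Reach.grow hU (Reach.base _ 28) gr19)
theorem orb23 : (orbS (U.lsub W16) 28).ncard = 4080 := reach20.ncard hU cl21 sz22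
theorem orb23e : orbS (U.lsub W16) 28 = {c | Nat.testBit M18 c = true} := reach20.orb hU cl21
theorem reach28 : Reach (U.lsub W24) 0 M26 := (Reach.grow hU (Reach.base _ 0) gr27)
theorem orb31 : (orbS (U.lsub W24) 0).ncard = 2 := reach28.ncard hU cl29 sz30
theorem orb31e : orbS (U.lsub W24) 0 = {c | Nat.testBit M26 c = true} := reach28.orb hU cl29
theorem lb32 : 2 ∣ Nat.card (U.lsub W24) := dvd_card_orb orb31
theorem lb : 8160 ∣ Nat.card (U.lsub W16) :=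
  dvd_card_step (s := 4080) (M := 2) (B := U.lsub W24) (Tab.lsub_le_all (AllP.cons (mem_of_rel (hU.one_of (PlaneFix.trans (hU.rel rel17_0) (hU.rel rel17_12))) (U.mem_letters (by decide))) (AllP.nil))) (hU.fixes fx25) orb23 lb32

end Cfsg.Agent.Spor.J3a.U
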